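import Cfsg.Agent.Lib.BitPerm.Rep

/-!
Images of a list of points under a word of networks, certified by bit sets that code the positions
of the points in the list.
-/

namespace CfsgLib.BitPerm

/-- the points of a list whose position, counted from `i`, has bit `k` -/
noncomputable def setK (k : Nat) : Nat → List Nat → Nat
  | _, [] => 0
  | i, p :: ps =>
    cond (Nat.beq (Nat.land (Nat.shiftRight i k) 1) 1)
      (Nat.lor (Nat.shiftLeft 1 p) (setK k (Nat.add i 1) ps)) (setK k (Nat.add i 1) ps)

/-- no number occurs twice -/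
noncomputable def okDistinct : List Nat → Bool
  | [] => true
  | p :: ps => !(ps.any fun q => Nat.beq q p) && okDistinct ps

theorem okDistinct_spec : ∀ {l : List Nat}, okDistinct l = true → l.Nodup
  | [], _ => List.nodup_nil
  | p :: ps, h => by
    simp only [okDistinct, Bool.and_eq_true, Bool.not_eq_true', List.any_eq_false] at h
    refine List.nodup_cons.2 ⟨fun hp => ?_, okDistinct_spec h.2⟩
    exact h.1 p hp (Nat.beq_refl p)

theorem setK_testBit (k : Nat) : ∀ (l : List Nat) (i q : Nat),
    (setK k i l).testBit q = true ↔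
      ∃ j, ∃ hj : j < l.length, l[j] = q ∧ (i + j).testBit k = true := by
  intro l
  induction l with
  | nil => intro i q; simp [setK]
  | cons p ps ih =>
    intro i q
    have hb : Nat.beq (Nat.land (Nat.shiftRight i k) 1) 1 = i.testBit k := by
      show Nat.beq ((i >>> k) &&& 1) 1 = i.testBit k
      rw [Nat.and_one_is_mod, Nat.testBit_eq_decide_div_mod_eq, Nat.shiftRight_eq_div_pow]
      by_cases h : i / 2 ^ k % 2 = 1
      · rw [h]; rfl
      · have h0 : i / 2 ^ k % 2 = 0 := by omega
        rw [h0]; rfl
    have step : (setK k i (p :: ps)).testBit q = true ↔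
        (i.testBit k = true ∧ p = q) ∨ (setK k (i + 1) ps).testBit q = true := by
      rw [setK, hb, show Nat.add i 1 = i + 1 from rfl]
      cases i.testBit k
      · simp
      · show (((1 <<< p) ||| setK k (i + 1) ps).testBit q = true) ↔ _
        rw [Nat.testBit_or, Nat.one_shiftLeft, Nat.testBit_two_pow]
        simp
    rw [step, ih]
    constructor
    · rintro (⟨hi, hp⟩ | ⟨j, hj, h1, h2⟩)
      · exact ⟨0, Nat.succ_pos _, hp, hi⟩
      · exact ⟨j + 1, Nat.succ_lt_succ hj, h1, by rwa [show i + (j + 1) = i + 1 + j by omega]⟩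
    · rintro ⟨j, hj, h1, h2⟩
      cases j with
      | zero => exact Or.inl ⟨h2, h1⟩
      | succ j =>
        exact Or.inr ⟨j, Nat.lt_of_succ_lt_succ hj, h1, by rwa [show i + 1 + j = i + (j + 1) by omega]⟩

theorem setK_getElem (k : Nat) {l : List Nat} (hl : l.Nodup) {j : Nat} (hj : j < l.length) :
    (setK k 1 l).testBit l[j] = (1 + j).testBit k := by
  rw [Bool.eq_iff_iff, setK_testBit]
  constructor
  · rintro ⟨m, hm, h1, h2⟩
    rwa [← (List.Nodup.getElem_inj_iff hl).1 h1]
  · exact fun h => ⟨j, hj, rfl, h⟩

namespace Sys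

variable {S : Sys}

/-- the word carries the first list to the second -/
noncomputable def okImages (S : Sys) (w : List Nat) (src dst : List Nat) (K : Nat) : Bool :=
  Nat.beq src.length dst.length && (Nat.blt src.length (Nat.pow 2 K) &&
    (okDistinct src && (okDistinct dst &&
      allLt K fun k => force (setK k 1 dst) fun B => Nat.beq (S.actW w B) (setK k 1 src))))

theorem map_ptW_of_okImages (h : S.okNets = true) {w src dst : List Nat} {K : Nat}
    (ho : S.okImages w src dst K = true) : src.map (S.ptW w) = dst := by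
  simp only [okImages, Bool.and_eq_true, Nat.beq_eq, Nat.blt_eq] at ho
  obtain ⟨hlen, hK, hs, hd, hall⟩ := ho
  have hn := okDistinct_spec hs
  have hm := okDistinct_spec hd
  have hK' : src.length < 2 ^ K := hK
  refine List.ext_getElem (by simpa using hlen) fun j hj hj' => ?_
  rw [List.length_map] at hj
  rw [List.getElem_map]
  have key : ∀ k < K, (setK k 1 dst).testBit (S.ptW w src[j]) = (1 + j).testBit k := by
    intro k hk
    have e := allLt_spec hall k hk
    rw [force_eq, Nat.beq_eq] at e
    rw [← testBit_actW h, e, setK_getElem k hn hj]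
  have big : ∀ x, x < 2 ^ K → ∀ k, K ≤ k → x.testBit k = false := fun x hx k hk =>
    Nat.testBit_lt_two_pow (lt_of_lt_of_le hx (Nat.pow_le_pow_right (by norm_num) hk))
  obtain ⟨k, hk⟩ := Nat.exists_testBit_of_ne_zero (show 1 + j ≠ 0 by omega)
  have hkK : k < K := by
    by_contra hn'
    rw [big (1 + j) (by omega) k (not_lt.1 hn')] at hk
    exact Bool.false_ne_true hk
  obtain ⟨m, hm', e, -⟩ := (setK_testBit k dst 1 _).1 ((key k hkK).trans hk)
  have hjm : 1 + m = 1 + j := by
    refine Nat.eq_of_testBit_eq fun i => ?_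
    by_cases hi : i < K
    · rw [← setK_getElem i hm hm', e, key i hi]
    · rw [big _ (by omega) i (not_lt.1 hi), big _ (by omega) i (not_lt.1 hi)]
  obtain rfl : m = j := by omega
  exact e.symm

theorem map_ptW_append (S : Sys) {u v a b c : List Nat} (h1 : a.map (S.ptW u) = b)
    (h2 : b.map (S.ptW v) = c) : a.map (S.ptW (u ++ v)) = c := by
  rw [← h2, ← h1, List.map_map]
  exact List.map_congr_left fun i _ => S.ptW_append u v i

end Sys

end CfsgLib.BitPerm
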